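import Cfsg.Agent.OddHalf.D6.Six.Defs
import Cfsg.Agent.OddHalf.D6.Six.Count
import Cfsg.Agent.OddHalf.D6.Six.TF
import Cfsg.Agent.OddHalf.D6.Six.Parity
import Cfsg.Agent.GH.Rank

-- merged: Cfsg.Agent.OddHalf.D6.Six.Transfer
section

/-!
# ODD D6, `C_G(x) = ⟨x⟩ × S₆`: the two transfers (helper708)

With `a = [x ~ φ c₁]`, `c = [x ~ φ c₃]`, `a' = [x ~ x φ c₁]`, `b' = [x ~ x φ c₂]`, `c' = [x ~ x φ c₃]`:
`a' + b' + c'` and `a + b' + c` are odd, `x` is not conjugate to `φ c₂`, and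
`|x^G| ≡ 1 + 15 (a + a' + c + c') + 45 b'` modulo 4.
-/

set_option autoImplicit false

namespace Cfsg.Agent.OddHalf.D6.Six

open Subgroup Equiv

namespace SSix

variable {G : Type*} [Group G] {x : G} {φ : Perm (Fin 6) →* G}

/-- a commutator of elements of `C(x)` is not `x` -/
theorem ne_comm (S : SSix x φ) {a b : G} (ha : a * x = x * a) (hb : b * x = x * b) : a * b * a⁻¹ * b⁻¹ ≠ x := by
  intro h
  have hx : S.hom (-1, 1) = x := by rw [hom_apply, if_neg (by decide), map_one, mul_one]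
  obtain ⟨⟨e, p⟩, hp⟩ : a ∈ S.hom.range := by rw [S.hom_range, mem_centralizer_singleton_iff]; exact ha
  obtain ⟨⟨e', q⟩, hq⟩ : b ∈ S.hom.range := by rw [S.hom_range, mem_centralizer_singleton_iff]; exact hb
  rw [← hp, ← hq, ← map_inv, ← map_inv, ← map_mul, ← map_mul, ← map_mul] at h
  nth_rewrite 2 [← hx] at h
  have h1 := congrArg Prod.fst (S.hom_inj h)
  simp only [Prod.fst_mul, Prod.fst_inv] at h1
  have h2 : e * e' * e⁻¹ * e'⁻¹ = 1 := by rw [mul_comm e e']; group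
  rw [h2] at h1
  exact absurd h1 (by decide)

/-- a conjugate of `x` is not the commutator of two elements commuting with it -/
theorem conj_ne_comm (S : SSix x φ) {d a b : G} (hd : IsConj x d) (ha : a * d = d * a) (hb : b * d = d * b) :
    a * b * a⁻¹ * b⁻¹ ≠ d := by
  obtain ⟨g, hg⟩ := isConj_iff.1 hd
  intro h
  have key : ∀ c, c * d = d * c → (g⁻¹ * c * g) * x = x * (g⁻¹ * c * g) := by
    intro c hc
    rw [← hg] at hc
    calc (g⁻¹ * c * g) * x = g⁻¹ * (c * (g * x * g⁻¹)) * g := by group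
      _ = g⁻¹ * (g * x * g⁻¹ * c) * g := by rw [hc]
      _ = x * (g⁻¹ * c * g) := by group
  apply S.ne_comm (key a ha) (key b hb)
  calc g⁻¹ * a * g * (g⁻¹ * b * g) * (g⁻¹ * a * g)⁻¹ * (g⁻¹ * b * g)⁻¹ = g⁻¹ * (a * b * a⁻¹ * b⁻¹) * g := by group
    _ = x := by rw [h, ← hg]; group

theorem not_c2 (S : SSix x φ) : ¬ IsConj x (φ c2) := by
  intro h
  have h1 : swap (0 : Fin 6) 1 * c2 = c2 * swap 0 1 := by decide
  have h2 : (swap (0 : Fin 6) 2 * swap 1 3) * c2 = c2 * (swap 0 2 * swap 1 3) := by decide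
  have h3 : swap (0 : Fin 6) 1 * (swap (0 : Fin 6) 2 * swap 1 3) * (swap (0 : Fin 6) 1)⁻¹ *
    (swap (0 : Fin 6) 2 * swap 1 3)⁻¹ = c2 := by decide
  apply S.conj_ne_comm h (a := φ (swap 0 1)) (b := φ (swap 0 2 * swap 1 3))
  · rw [← map_mul, h1, map_mul]
  · rw [← map_mul, h2, map_mul]
  · rw [← map_inv, ← map_inv, ← map_mul, ← map_mul, ← map_mul, h3]

theorem sq_of_conj (S : SSix x φ) {p : Perm (Fin 6)} (h : IsConj x (φ p)) : p * p = 1 := by
  obtain ⟨g, hg⟩ := isConj_iff.1 h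
  apply S.inj
  rw [map_mul, map_one, ← hg]
  calc g * x * g⁻¹ * (g * x * g⁻¹) = g * (x * x) * g⁻¹ := by group
    _ = 1 := by rw [S.xx]; group

theorem sq_of_conj' (S : SSix x φ) {p : Perm (Fin 6)} (h : IsConj x (x * φ p)) : p * p = 1 := by
  obtain ⟨g, hg⟩ := isConj_iff.1 h
  apply S.inj
  rw [map_mul, map_one]
  have h1 : (x * φ p) * (x * φ p) = 1 := by
    rw [← hg]
    calc g * x * g⁻¹ * (g * x * g⁻¹) = g * (x * x) * g⁻¹ := by group
      _ = 1 := by rw [S.xx]; group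
  calc φ p * φ p = x * x * φ p * φ p := by rw [S.xx, one_mul]
    _ = x * (x * φ p) * φ p := by group
    _ = x * (φ p * x) * φ p := by rw [S.comm]
    _ = (x * φ p) * (x * φ p) := by group
    _ = 1 := h1

theorem conj_class (S : SSix x φ) {p q : Perm (Fin 6)} (h : IsConj p q) (hp : IsConj x (φ p)) : IsConj x (φ q) := by
  obtain ⟨r, hr⟩ := isConj_iff.1 h
  refine hp.trans (isConj_iff.2 ⟨φ r, ?_⟩)
  rw [← map_inv, ← map_mul, ← map_mul, hr]

theorem conj_class' (S : SSix x φ) {p q : Perm (Fin 6)} (h : IsConj p q) (hp : IsConj x (x * φ p)) :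
    IsConj x (x * φ q) := by
  obtain ⟨r, hr⟩ := isConj_iff.1 h
  refine hp.trans (isConj_iff.2 ⟨φ r, ?_⟩)
  rw [S.conj_mul, hr]

theorem mem_cen (S : SSix x φ) (p : Perm (Fin 6)) : φ p ∈ centralizer ({x} : Set G) :=
  mem_centralizer_singleton_iff.2 (S.comm' p)

theorem mem_cen' (S : SSix x φ) (p : Perm (Fin 6)) : x * φ p ∈ centralizer ({x} : Set G) :=
  mem_centralizer_singleton_iff.2 (by rw [mul_assoc, S.comm', ← mul_assoc])

/-- the number of conjugates of `x` in `C(x)` with given value of a character -/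
theorem ncard_neg [Finite G] (S : SSix x φ) (χ : ℤˣ × Perm (Fin 6) → Prop) :
    {d : G | IsConj x d ∧ ((∃ p, d = φ p ∧ χ (1, p)) ∨ ∃ p, d = x * φ p ∧ χ (-1, p))}.ncard =
      {p | IsConj x (φ p) ∧ χ (1, p)}.ncard + {p | IsConj x (x * φ p) ∧ χ (-1, p)}.ncard := by
  have h1 : {d : G | IsConj x d ∧ ((∃ p, d = φ p ∧ χ (1, p)) ∨ ∃ p, d = x * φ p ∧ χ (-1, p))} =
      (φ '' {p | IsConj x (φ p) ∧ χ (1, p)}) ∪
      ((fun p => x * φ p) '' {p | IsConj x (x * φ p) ∧ χ (-1, p)}) := by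
    ext d
    constructor
    · rintro ⟨h, ⟨p, rfl, h2⟩ | ⟨p, rfl, h2⟩⟩
      · exact Or.inl ⟨p, ⟨h, h2⟩, rfl⟩
      · exact Or.inr ⟨p, ⟨h, h2⟩, rfl⟩
    · rintro (⟨p, ⟨h, h2⟩, rfl⟩ | ⟨p, ⟨h, h2⟩, rfl⟩)
      · exact ⟨h, Or.inl ⟨p, rfl, h2⟩⟩
      · exact ⟨h, Or.inr ⟨p, rfl, h2⟩⟩
  rw [h1, Set.ncard_union_eq, Set.ncard_image_of_injective _ S.inj, Set.ncard_image_of_injective]
  · intro p q h
    exact S.mul_inj h
  · rw [Set.disjoint_left]
    rintro _ ⟨p, -, rfl⟩ ⟨q, -, h⟩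
    exact S.ne p q h.symm

/-- **transfer** of a character `χ` of `⟨x⟩ × S₆` -/
theorem even_neg [Finite G] (hG : ∀ (m : G →* ℤˣ) (g : G), m g = 1) (S : SSix x φ)
    (χ : ℤˣ × Perm (Fin 6) →* ℤˣ) :
    Even ({d : G | IsConj x d ∧ ((∃ p, d = φ p ∧ χ (1, p) = -1) ∨ ∃ p, d = x * φ p ∧ χ (-1, p) = -1)}.ncard) := by
  obtain ⟨c, hc1, hc2⟩ := S.exists_coord
  obtain ⟨m, hm, h⟩ := TF.exists_even hG S.xx (centralizer ({x} : Set G)) (χ.comp c)
  have h0 : 0 < Nat.card (centralizer ({x} : Set G)) := Nat.card_pos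
  have h1 := Nat.eq_of_mul_eq_mul_right h0 h
  have h2 : TF.Neg x (centralizer ({x} : Set G)) (χ.comp c) =
      {d : G | IsConj x d ∧ ((∃ p, d = φ p ∧ χ (1, p) = -1) ∨ ∃ p, d = x * φ p ∧ χ (-1, p) = -1)} := by
    ext d
    constructor
    · rintro ⟨hd, hd1, hd2⟩
      refine ⟨hd, ?_⟩
      obtain ⟨p, rfl | rfl⟩ := S.cx d (mem_centralizer_singleton_iff.1 hd1)
      · left
        exact ⟨p, rfl, by rw [← hc1 p hd1]; exact hd2⟩
      · right
        exact ⟨p, rfl, by rw [← hc2 p hd1]; exact hd2⟩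
    · rintro ⟨hd, ⟨p, rfl, hp⟩ | ⟨p, rfl, hp⟩⟩
      · exact ⟨hd, S.mem_cen p, by show χ (c _) = -1; rw [hc1 p]; exact hp⟩
      · exact ⟨hd, S.mem_cen' p, by show χ (c _) = -1; rw [hc2 p]; exact hp⟩
  rw [h2] at h1
  rw [← h1]
  exact hm

open Classical in
/-- the first transfer -/
theorem tr_one [Finite G] (hG : ∀ (m : G →* ℤˣ) (g : G), m g = 1) (S : SSix x φ) :
    Even (1 + (if IsConj x (x * φ c1) then 15 else 0) + (if IsConj x (x * φ c2) then 45 else 0) +
      (if IsConj x (x * φ c3) then 15 else 0)) := by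
  have h := S.even_neg hG (MonoidHom.fst _ _)
  rw [S.ncard_neg (fun b => MonoidHom.fst ℤˣ (Perm (Fin 6)) b = -1)] at h
  have h1 : {p | IsConj x (φ p) ∧ MonoidHom.fst ℤˣ (Perm (Fin 6)) (1, p) = -1}.ncard = 0 := by
    rw [Set.ncard_eq_zero, Set.eq_empty_iff_forall_notMem]
    rintro p ⟨-, h2⟩
    exact absurd h2 (show (1 : ℤˣ) ≠ -1 by decide)
  have h2 : {p | IsConj x (x * φ p) ∧ MonoidHom.fst ℤˣ (Perm (Fin 6)) (-1, p) = -1} =
      {p | IsConj x (x * φ p)} := by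
    ext p
    exact ⟨fun h => h.1, fun h => ⟨h, rfl⟩⟩
  rw [h1, h2, zero_add, ncard_class (fun p => IsConj x (x * φ p)) (fun p => S.sq_of_conj')
    (fun p q => S.conj_class')] at h
  rwa [if_pos (show IsConj x (x * φ 1) by rw [map_one, mul_one])] at h

open Classical in
/-- the second transfer -/
theorem tr_two [Finite G] (hG : ∀ (m : G →* ℤˣ) (g : G), m g = 1) (S : SSix x φ) :
    Even ((if IsConj x (φ c1) then 15 else 0) + (if IsConj x (φ c3) then 15 else 0) +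
      (1 + (if IsConj x (x * φ c2) then 45 else 0))) := by
  let χ : ℤˣ × Perm (Fin 6) →* ℤˣ := MonoidHom.fst _ _ * (Perm.sign.comp (MonoidHom.snd _ _))
  have hχ : ∀ e p, χ (e, p) = e * Perm.sign p := fun _ _ => rfl
  have s1 : Perm.sign c1 = -1 := by decide
  have s2 : Perm.sign c2 = 1 := by decide
  have s3 : Perm.sign c3 = -1 := by decide
  have hne : (1 : ℤˣ) ≠ -1 := by decide
  have h := S.even_neg hG χ
  rw [S.ncard_neg (fun b => χ b = -1)] at h
  have hs : ∀ p q : Perm (Fin 6), IsConj p q → Perm.sign q = Perm.sign p := by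
    intro p q hpq
    obtain ⟨r, hr⟩ := isConj_iff.1 hpq
    rw [← hr, map_mul, map_mul, map_inv, mul_comm (Perm.sign r), mul_inv_cancel_right]
  rw [ncard_class (fun p => IsConj x (φ p) ∧ χ (1, p) = -1) (fun p h => S.sq_of_conj h.1)
    (fun p q hpq h => ⟨S.conj_class hpq h.1, by rw [hχ, hs p q hpq, ← hχ]; exact h.2⟩),
    ncard_class (fun p => IsConj x (x * φ p) ∧ χ (-1, p) = -1) (fun p h => S.sq_of_conj' h.1)
    (fun p q hpq h => ⟨S.conj_class' hpq h.1, by rw [hχ, hs p q hpq, ← hχ]; exact h.2⟩)] at h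
  have e1 : ¬ (IsConj x (φ 1) ∧ χ (1, 1) = -1) := by
    rintro ⟨-, h2⟩
    rw [hχ, map_one, one_mul] at h2
    exact hne h2
  have e2 : (IsConj x (φ c1) ∧ χ (1, c1) = -1) ↔ IsConj x (φ c1) := by
    rw [hχ, s1]; simp
  have e3 : ¬ (IsConj x (φ c2) ∧ χ (1, c2) = -1) := fun h2 => S.not_c2 h2.1
  have e4 : (IsConj x (φ c3) ∧ χ (1, c3) = -1) ↔ IsConj x (φ c3) := by
    rw [hχ, s3]; simp
  have e5 : (IsConj x (x * φ 1) ∧ χ (-1, 1) = -1) := by
    refine ⟨by rw [map_one, mul_one], ?_⟩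
    rw [hχ, map_one, mul_one]
  have e6 : ¬ (IsConj x (x * φ c1) ∧ χ (-1, c1) = -1) := by
    rintro ⟨-, h2⟩
    rw [hχ, s1] at h2
    exact absurd h2 (by decide)
  have e7 : (IsConj x (x * φ c2) ∧ χ (-1, c2) = -1) ↔ IsConj x (x * φ c2) := by
    rw [hχ, s2]; simp
  have e8 : ¬ (IsConj x (x * φ c3) ∧ χ (-1, c3) = -1) := by
    rintro ⟨-, h2⟩
    rw [hχ, s3] at h2
    exact absurd h2 (by decide)
  rw [if_neg e1, if_neg e3, if_pos e5, if_neg e6, if_neg e8] at h
  simp only [e2, e4, e7, zero_add, add_zero] at h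
  exact h

open Classical in
/-- the number of conjugates of `x` commuting with `x` -/
theorem ncard_all [Finite G] (S : SSix x φ) : {d : G | IsConj x d ∧ d * x = x * d}.ncard =
    ((if IsConj x (φ c1) then 15 else 0) + (if IsConj x (φ c3) then 15 else 0)) +
    (1 + (if IsConj x (x * φ c1) then 15 else 0) + (if IsConj x (x * φ c2) then 45 else 0) +
      (if IsConj x (x * φ c3) then 15 else 0)) := by
  have h := S.ncard_neg (fun _ => True)
  have h1 : {d : G | IsConj x d ∧ ((∃ p, d = φ p ∧ True) ∨ ∃ p, d = x * φ p ∧ True)} =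
      {d : G | IsConj x d ∧ d * x = x * d} := by
    ext d
    constructor
    · rintro ⟨hd, ⟨p, rfl, -⟩ | ⟨p, rfl, -⟩⟩
      · exact ⟨hd, S.comm' p⟩
      · exact ⟨hd, mem_centralizer_singleton_iff.1 (S.mem_cen' p)⟩
    · rintro ⟨hd, h2⟩
      refine ⟨hd, ?_⟩
      obtain ⟨p, h3 | h3⟩ := S.cx d h2
      · exact Or.inl ⟨p, h3, trivial⟩
      · exact Or.inr ⟨p, h3, trivial⟩
  rw [h1] at h
  rw [h]
  have e1 : {p | IsConj x (φ p) ∧ True} = {p | IsConj x (φ p)} := by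
    ext p; exact ⟨fun h => h.1, fun h => ⟨h, trivial⟩⟩
  have e2 : {p | IsConj x (x * φ p) ∧ True} = {p | IsConj x (x * φ p)} := by
    ext p; exact ⟨fun h => h.1, fun h => ⟨h, trivial⟩⟩
  rw [e1, e2, ncard_class (fun p => IsConj x (φ p)) (fun p => S.sq_of_conj) (fun p q => S.conj_class),
    ncard_class (fun p => IsConj x (x * φ p)) (fun p => S.sq_of_conj') (fun p q => S.conj_class'),
    if_neg (show ¬ IsConj x (φ 1) by
      rw [map_one]
      intro h2
      exact S.x1 (isConj_one_left.1 h2)), if_neg S.not_c2,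
    if_pos (show IsConj x (x * φ 1) by rw [map_one, mul_one])]
  omega

end SSix

end Cfsg.Agent.OddHalf.D6.Six

end

-- merged: Cfsg.Agent.OddHalf.D6.Six.SylowSix
section

/-!
# ODD D6, `C_G(x) = ⟨x⟩ × S₆`: the Sylow 2-subgroup of `C_G(x)` (helper708)
-/

set_option autoImplicit false

namespace Cfsg.Agent.OddHalf.D6.Six

open Subgroup Equiv

abbrev a0 : Perm (Fin 6) := swap 0 1
abbrev e0 : Perm (Fin 6) := swap 0 2 * swap 1 3

/-- elements of `S₆` commuting with `c₁` and `c₂` -/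
def PP (p : Perm (Fin 6)) : Prop := p * c1 = c1 * p ∧ p * c2 = c2 * p

instance : DecidablePred PP := fun p => by unfold PP; infer_instance

theorem card_PP : (Finset.univ.filter fun p : Perm (Fin 6) => PP p).card = 16 := by decide +kernel

theorem center_PP : ∀ p : Perm (Fin 6), PP p → p * a0 = a0 * p → p * e0 = e0 * p →
    p = 1 ∨ p = c1 ∨ p = c2 ∨ p = c3 := by decide +kernel

/-- the Sylow 2-subgroup `C_G(x, φ c₁, φ c₂)` of `C_G(x)` -/
def TT {G : Type*} [Group G] (x : G) (φ : Perm (Fin 6) →* G) : Subgroup G :=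
  centralizer ({x, φ c1, φ c2} : Set G)

theorem mem_TT {G : Type*} [Group G] {x : G} {φ : Perm (Fin 6) →* G} {g : G} :
    g ∈ TT x φ ↔ g * x = x * g ∧ g * φ c1 = φ c1 * g ∧ g * φ c2 = φ c2 * g := by
  unfold TT
  rw [mem_centralizer_iff]
  constructor
  · intro h
    exact ⟨(h x (by simp)).symm, (h _ (by simp)).symm, (h _ (by simp)).symm⟩
  · rintro ⟨h1, h2, h3⟩ y hy
    simp only [Set.mem_insert_iff, Set.mem_singleton_iff] at hy
    rcases hy with rfl | rfl | rfl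
    · exact h1.symm
    · exact h2.symm
    · exact h3.symm

namespace SSix

variable {G : Type*} [Group G] {x : G} {φ : Perm (Fin 6) →* G}

theorem comm_iff (S : SSix x φ) {p q : Perm (Fin 6)} : φ p * φ q = φ q * φ p ↔ p * q = q * p := by
  rw [← map_mul, ← map_mul]
  exact ⟨fun h => S.inj h, fun h => by rw [h]⟩

theorem comm_iff' (S : SSix x φ) {p q : Perm (Fin 6)} : x * φ p * φ q = φ q * (x * φ p) ↔ p * q = q * p := by
  rw [← S.comm_iff, ← mul_assoc, S.comm' q, mul_assoc, mul_assoc]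
  exact ⟨fun h => mul_left_cancel h, fun h => by rw [h]⟩

theorem mem_TT_iff (S : SSix x φ) {g : G} : g ∈ TT x φ ↔ ∃ p, PP p ∧ (g = φ p ∨ g = x * φ p) := by
  rw [mem_TT]
  constructor
  · rintro ⟨h1, h2, h3⟩
    obtain ⟨p, rfl | rfl⟩ := S.cx g h1
    · exact ⟨p, ⟨S.comm_iff.1 h2, S.comm_iff.1 h3⟩, Or.inl rfl⟩
    · exact ⟨p, ⟨S.comm_iff'.1 h2, S.comm_iff'.1 h3⟩, Or.inr rfl⟩
  · rintro ⟨p, ⟨h1, h2⟩, rfl | rfl⟩
    · exact ⟨S.comm' p, S.comm_iff.2 h1, S.comm_iff.2 h2⟩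
    · exact ⟨mem_centralizer_singleton_iff.1 (S.mem_cen' p), S.comm_iff'.2 h1, S.comm_iff'.2 h2⟩

theorem card_TT [Finite G] (S : SSix x φ) : Nat.card (TT x φ) = 32 := by
  classical
  let e : Bool × {p // PP p} ≃ TT x φ := Equiv.ofBijective
    (fun b => ⟨(if b.1 then x else 1) * φ b.2, by
      rw [S.mem_TT_iff]
      refine ⟨b.2, b.2.2, ?_⟩
      split_ifs
      · exact Or.inr rfl
      · exact Or.inl (one_mul _)⟩) (by
    constructor
    · rintro ⟨b, p⟩ ⟨c, q⟩ h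
      have h1 : (if b then x else 1) * φ p = (if c then x else 1) * φ q := congrArg Subtype.val h
      cases b <;> cases c
      · simp only [Bool.false_eq_true, if_false, one_mul] at h1
        rw [Subtype.ext (S.inj h1)]
      · simp only [Bool.false_eq_true, if_false, one_mul, if_true] at h1
        exact absurd h1 (S.ne p q)
      · simp only [Bool.false_eq_true, if_false, one_mul, if_true] at h1
        exact absurd h1.symm (S.ne q p)
      · simp only [if_true] at h1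
        rw [Subtype.ext (S.mul_inj h1)]
    · rintro ⟨g, hg⟩
      obtain ⟨p, hp, rfl | rfl⟩ := S.mem_TT_iff.1 hg
      · exact ⟨(false, ⟨p, hp⟩), Subtype.ext (by simp)⟩
      · exact ⟨(true, ⟨p, hp⟩), Subtype.ext (by simp)⟩)
  rw [← Nat.card_congr e, Nat.card_prod]
  have h1 : Nat.card {p // PP p} = 16 := by
    rw [Nat.card_eq_fintype_card, Fintype.card_subtype, card_PP]
  rw [h1]
  simp

/-- the centre of `T` -/
theorem center_TT (S : SSix x φ) {g : G} (hg : g ∈ TT x φ) (h : ∀ t ∈ TT x φ, t * g = g * t) :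
    ∃ p, (p = 1 ∨ p = c1 ∨ p = c2 ∨ p = c3) ∧ (g = φ p ∨ g = x * φ p) := by
  obtain ⟨p, hp, hgp⟩ := S.mem_TT_iff.1 hg
  refine ⟨p, center_PP p hp ?_ ?_, hgp⟩
  · have h1 := h (φ a0) (S.mem_TT_iff.2 ⟨a0, ⟨by decide, by decide⟩, Or.inl rfl⟩)
    rcases hgp with rfl | rfl
    · exact (S.comm_iff.1 h1).symm
    · exact S.comm_iff'.1 h1.symm
  · have h1 := h (φ e0) (S.mem_TT_iff.2 ⟨e0, ⟨by decide, by decide⟩, Or.inl rfl⟩)
    rcases hgp with rfl | rfl
    · exact (S.comm_iff.1 h1).symm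
    · exact S.comm_iff'.1 h1.symm

theorem card_of_conj [Finite G] (S : SSix x φ) {d : G} (h : IsConj x d) :
    Nat.card (centralizer ({d} : Set G)) = 1440 := by
  obtain ⟨g, rfl⟩ := isConj_iff.1 h
  rw [← S.card]
  have e1 : ∀ c : centralizer ({x} : Set G), g * (c : G) * g⁻¹ ∈ centralizer ({g * x * g⁻¹} : Set G) := by
    intro c
    rw [mem_centralizer_singleton_iff]
    have := mem_centralizer_singleton_iff.1 c.2
    calc g * (c : G) * g⁻¹ * (g * x * g⁻¹) = g * (c * x) * g⁻¹ := by group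
      _ = g * (x * c) * g⁻¹ := by rw [this]
      _ = g * x * g⁻¹ * (g * c * g⁻¹) := by group
  have e2 : ∀ c : centralizer ({g * x * g⁻¹} : Set G), g⁻¹ * (c : G) * g ∈ centralizer ({x} : Set G) := by
    intro c
    rw [mem_centralizer_singleton_iff]
    have := mem_centralizer_singleton_iff.1 c.2
    calc g⁻¹ * (c : G) * g * x = g⁻¹ * (c * (g * x * g⁻¹)) * g := by group
      _ = g⁻¹ * (g * x * g⁻¹ * c) * g := by rw [this]
      _ = x * (g⁻¹ * c * g) := by group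
  exact (Nat.card_congr
    { toFun := fun c => ⟨_, e1 c⟩
      invFun := fun c => ⟨_, e2 c⟩
      left_inv := fun c => Subtype.ext (by show g⁻¹ * (g * (c : G) * g⁻¹) * g = c; group)
      right_inv := fun c => Subtype.ext (by show g * (g⁻¹ * (c : G) * g) * g⁻¹ = c; group) }).symm

/-- a subgroup of order 64 is not contained in the centralizer of a conjugate of `x` -/
theorem not_le [Finite G] (S : SSix x φ) {d : G} (h : IsConj x d) {K : Subgroup G} (hK : Nat.card K = 64)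
    (hd : ∀ k ∈ K, k * d = d * k) : False := by
  have h1 : K ≤ centralizer ({d} : Set G) := fun k hk => mem_centralizer_singleton_iff.2 (hd k hk)
  have h2 := card_dvd_of_le h1
  rw [hK, S.card_of_conj h] at h2
  revert h2
  decide

end SSix

/-- a subgroup of index two with a larger one -/
theorem exists_grow {G : Type*} [Group G] [Finite G] {T : Subgroup G} (hT : Nat.card T = 32)
    (h : 64 ∣ Nat.card G) : ∃ (K : Subgroup G) (s : G), Nat.card K = 64 ∧ T ≤ K ∧ s ∈ K ∧ s ∉ T ∧ s * s ∈ T ∧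
      (∀ t ∈ T, s * t * s⁻¹ ∈ T) ∧ ∀ k ∈ K, k ∈ T ∨ s * k ∈ T := by
  have : Fact (Nat.Prime 2) := ⟨Nat.prime_two⟩
  obtain ⟨K, hK, hTK⟩ := Sylow.exists_subgroup_card_pow_succ (p := 2) (n := 5) (by simpa using h)
    (by rw [hT]; norm_num)
  have hi : (T.subgroupOf K).index = 2 := by
    have h1 := card_mul_index (T.subgroupOf K)
    rw [Nat.card_congr (subgroupOfEquivOfLe hTK).toEquiv, hT, hK] at h1
    omega
  have hn : (T.subgroupOf K).Normal := normal_of_index_eq_two hi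
  obtain ⟨s, hsK, hsT⟩ : ∃ s ∈ K, s ∉ T := by
    by_contra hc
    push Not at hc
    have h1 : K ≤ T := hc
    have h2 := card_dvd_of_le h1
    rw [hK, hT] at h2
    revert h2
    decide
  refine ⟨K, s, by rw [hK]; norm_num, hTK, hsK, hsT, ?_, ?_, ?_⟩
  · have h1 := mul_self_mem_of_index_two hi (⟨s, hsK⟩ : K)
    rwa [mem_subgroupOf] at h1
  · intro t ht
    have h1 := hn.conj_mem ⟨t, hTK ht⟩ (by rw [mem_subgroupOf]; exact ht) ⟨s, hsK⟩
    rwa [mem_subgroupOf] at h1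
  · intro k hk
    have h1 := mul_mem_iff_of_index_two hi (a := (⟨s, hsK⟩ : K)) (b := ⟨k, hk⟩)
    rw [mem_subgroupOf, mem_subgroupOf, mem_subgroupOf] at h1
    by_cases h2 : k ∈ T
    · exact Or.inl h2
    · exact Or.inr (h1.2 (by simp [hsT, h2]))

namespace SSix

variable {G : Type*} [Group G] {x : G} {φ : Perm (Fin 6) →* G}

/-- the pattern in which all but `φ c₂` of the involutions of `Z(T)` are conjugate to `x` is impossible -/
theorem no_all [Finite G] (S : SSix x φ) (h64 : 64 ∣ Nat.card G) (h1 : IsConj x (φ c1))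
    (h2 : IsConj x (x * φ c1)) (h3 : IsConj x (φ c3)) (h4 : IsConj x (x * φ c2)) (h5 : IsConj x (x * φ c3)) :
    False := by
  obtain ⟨K, s, hK, hTK, hsK, hsT, hss, hsn, hKT⟩ := exists_grow S.card_TT h64
  have hTx : ∀ t ∈ TT x φ, t * x = x * t := fun t ht => (mem_TT.1 ht).1
  have hT1 : ∀ t ∈ TT x φ, t * φ c1 = φ c1 * t := fun t ht => (mem_TT.1 ht).2.1
  have hT2 : ∀ t ∈ TT x φ, t * φ c2 = φ c2 * t := fun t ht => (mem_TT.1 ht).2.2
  have e13 : c1 * c2 = c3 := by decide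
  have hT3 : ∀ t ∈ TT x φ, t * φ c3 = φ c3 * t := by
    intro t ht
    rw [← e13, map_mul, ← mul_assoc, hT1 t ht, mul_assoc, hT2 t ht, mul_assoc]
  have hmul : ∀ {a b : G}, (∀ t ∈ TT x φ, t * a = a * t) → (∀ t ∈ TT x φ, t * b = b * t) →
      ∀ t ∈ TT x φ, t * (a * b) = a * b * t := by
    intro a b ha hb t ht
    rw [← mul_assoc, ha t ht, mul_assoc, hb t ht, mul_assoc]
  -- `s` does not centralize a conjugate of `x` in `Z(T)`
  have hfix : ∀ d, IsConj x d → (∀ t ∈ TT x φ, t * d = d * t) → s * d * s⁻¹ ≠ d := by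
    intro d hd hc hsd
    apply S.not_le hd hK
    intro k hk
    have hs : s * d = d * s := mul_inv_eq_iff_eq_mul.1 hsd
    rcases hKT k hk with h | h
    · exact hc k h
    · have h6 := hc _ h
      have h7 : s * (k * d) = s * (d * k) := by
        rw [← mul_assoc, h6, ← mul_assoc, ← hs, mul_assoc]
      exact mul_left_cancel h7
  -- the conjugates under `s` are in `Z(T)`
  have hcen : ∀ d ∈ TT x φ, (∀ t ∈ TT x φ, t * d = d * t) → s * d * s⁻¹ ∈ TT x φ ∧
      ∀ t ∈ TT x φ, t * (s * d * s⁻¹) = s * d * s⁻¹ * t := by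
    intro d hd hc
    refine ⟨hsn d hd, fun t ht => ?_⟩
    -- `s⁻¹ t s = s⁻² (s t s⁻¹) s²`
    have h6 : s⁻¹ * t * s ∈ TT x φ := by
      have h7 : s⁻¹ * t * s = (s * s)⁻¹ * (s * t * s⁻¹) * (s * s) := by group
      rw [h7]
      exact mul_mem (mul_mem (inv_mem hss) (hsn t ht)) hss
    have h8 := hc _ h6
    calc t * (s * d * s⁻¹) = s * (s⁻¹ * t * s * d) * s⁻¹ := by group
      _ = s * (d * (s⁻¹ * t * s)) * s⁻¹ := by rw [h8]
      _ = s * d * s⁻¹ * t := by group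
  have hsq : ∀ d, (∀ t ∈ TT x φ, t * d = d * t) → s * (s * d * s⁻¹) * s⁻¹ = d := by
    intro d hc
    have h6 := hc _ hss
    calc s * (s * d * s⁻¹) * s⁻¹ = (s * s * d) * (s * s)⁻¹ := by group
      _ = d := by rw [h6]; group
  -- the elements fixed by `s`
  have mem : ∀ p, PP p → φ p ∈ TT x φ := fun p hp => S.mem_TT_iff.2 ⟨p, hp, Or.inl rfl⟩
  have hxT : x ∈ TT x φ := mem_TT.2 ⟨rfl, S.comm c1, S.comm c2⟩
  have key : ∀ d ∈ TT x φ, (∀ t ∈ TT x φ, t * d = d * t) → s * d * s⁻¹ = d → d ≠ 1 → d = φ c2 := by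
    intro d hd hc hsd hd1
    obtain ⟨p, hp, hdp⟩ := S.center_TT hd hc
    have hx1 : ∀ d', d = d' → IsConj x d' → False := by
      rintro _ rfl h
      exact hfix d h hc hsd
    rcases hp with rfl | rfl | rfl | rfl <;> rcases hdp with h | h
    · exact absurd (h.trans (map_one φ)) hd1
    · exact (hx1 x (h.trans (by rw [map_one, mul_one])) (IsConj.refl x)).elim
    · exact (hx1 _ h h1).elim
    · exact (hx1 _ h h2).elim
    · exact h
    · exact (hx1 _ h h4).elim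
    · exact (hx1 _ h h3).elim
    · exact (hx1 _ h h5).elim
  have main : ∀ d ∈ TT x φ, (∀ t ∈ TT x φ, t * d = d * t) → d * d = 1 → IsConj x d →
      s * d * s⁻¹ = d * φ c2 := by
    intro d hd hc hdd hxd
    obtain ⟨h6, h7⟩ := hcen d hd hc
    have h8 : d * (s * d * s⁻¹) = φ c2 := by
      apply key _ (mul_mem hd h6) (hmul hc h7)
      · calc s * (d * (s * d * s⁻¹)) * s⁻¹ = (s * d * s⁻¹) * (s * (s * d * s⁻¹) * s⁻¹) := by group
          _ = (s * d * s⁻¹) * d := by rw [hsq d hc]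
          _ = d * (s * d * s⁻¹) := hc _ h6
      · intro h9
        apply hfix d hxd hc
        rw [eq_inv_of_mul_eq_one_right h9, inv_eq_of_mul_eq_one_left hdd]
    rw [← h8, ← mul_assoc, hdd, one_mul]
  have m1 := main x hxT hTx S.xx (IsConj.refl x)
  have m2 := main (φ c1) (mem c1 ⟨rfl, by decide⟩) hT1 (by rw [← map_mul, show c1 * c1 = 1 by decide, map_one]) h1
  have m3 := main (x * φ c1) (mul_mem hxT (mem c1 ⟨rfl, by decide⟩)) (hmul hTx hT1)
    (by rw [mul_assoc, ← mul_assoc (φ c1), S.comm' c1, mul_assoc, ← mul_assoc, S.xx, one_mul, ← map_mul,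
      show c1 * c1 = 1 by decide, map_one]) h2
  have m4 : s * (x * φ c1) * s⁻¹ = x * φ c1 := by
    calc s * (x * φ c1) * s⁻¹ = (s * x * s⁻¹) * (s * φ c1 * s⁻¹) := by group
      _ = x * φ c2 * (φ c1 * φ c2) := by rw [m1, m2]
      _ = x * (φ (c2 * (c1 * c2))) := by rw [map_mul φ c2, map_mul φ c1, mul_assoc]
      _ = x * φ c1 := by rw [show c2 * (c1 * c2) = c1 by decide]
  exact hfix (x * φ c1) h2 (hmul hTx hT1) m4

/-- if `x` has an odd number of conjugates then `G` has sectional rank at most 4 -/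
theorem rank_of_odd [Finite G] (S : SSix x φ) (h64 : ¬ 64 ∣ Nat.card G) : SectionalPRankLE 2 4 G := by
  have : Fact (Nat.Prime 2) := ⟨Nat.prime_two⟩
  have hp : IsPGroup 2 (TT x φ) := IsPGroup.of_card (n := 5) (by rw [S.card_TT]; norm_num)
  obtain ⟨P, hP⟩ := hp.exists_le_sylow
  obtain ⟨n, hn⟩ := IsPGroup.iff_card.1 P.isPGroup'
  have h5 : n = 5 := by
    have h1 : 5 ≤ n := by
      have h2 := card_dvd_of_le hP
      rw [S.card_TT] at h2
      have h3 : Nat.card (P : Subgroup G) = 2 ^ n := hn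
      rw [h3, show 32 = 2 ^ 5 by norm_num] at h2
      exact (Nat.pow_dvd_pow_iff_le_right (by norm_num)).1 h2
    by_contra h2
    apply h64
    have h3 : 2 ^ 6 ∣ 2 ^ n := pow_dvd_pow 2 (by omega)
    have h4 : Nat.card (P : Subgroup G) ∣ Nat.card G := card_subgroup_dvd_card _
    rw [show Nat.card (P : Subgroup G) = 2 ^ n from hn] at h4
    exact (show 64 = 2 ^ 6 by norm_num) ▸ h3.trans h4
  rw [← GH.Rank.sylow_iff P]
  let c : Perm (Fin 6) := a0 * e0
  have hc4 : orderOf c = 4 := by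
    have : orderOf c = 2 ^ (1 + 1) := orderOf_eq_prime_pow (by decide) (by decide)
    simpa using this
  have hcT : φ c ∈ TT x φ := S.mem_TT_iff.2 ⟨c, ⟨by decide, by decide⟩, Or.inl rfl⟩
  have hcP : φ c ∈ (P : Subgroup G) := hP hcT
  let k : (P : Subgroup G) := ⟨φ c, hcP⟩
  have hk : orderOf k = 4 := by
    rw [← hc4, ← orderOf_injective φ S.inj c]
    exact Subgroup.orderOf_mk _ _
  have h1 : SectionalPRankLE 2 1 (zpowers k) := by
    intro H N _ E _ hE
    have h0 : IsCyclic (H ⧸ N) := isCyclic_of_surjective (QuotientGroup.mk' N) (QuotientGroup.mk'_surjective N)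
    obtain ⟨g, hg⟩ := IsCyclic.exists_generator (α := E)
    have h1 : Nat.card E = orderOf g := (orderOf_eq_card_of_forall_mem_zpowers hg).symm
    rw [h1]
    apply orderOf_le_of_pow_eq_one (by norm_num)
    rw [pow_one]
    exact Subtype.ext (hE g g.2)
  refine GH.Rank.of_index_le (K := zpowers k) (a := 1) (b := 3) h1 ?_
  have h2 := card_mul_index (zpowers k)
  rw [Nat.card_zpowers, hk, show Nat.card (P : Subgroup G) = 2 ^ n from hn, h5] at h2
  omega

end SSix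

end Cfsg.Agent.OddHalf.D6.Six

end
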